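import Cfsg.Agent.Mrg.Omega.ML.Ex.Two


/-!
# LEMMA MOV (bb #24831 of helper192; #24920 of helper351): the literals

`H` acts on the elementary abelian 2-group `M` (not necessarily faithfully), `T` is a Sylow 2-subgroup, `Z ≤ C_M(T)`,
`Z ≤ Y'`, `Y ∩ Y' = 1`; `N_H(T)` normalises `Z`, `Y`, `Y'`, the `T`-fixed vectors of `Y` are fixed by `H`; every
`T`-minimal `P` fixes `Z` pointwise, or it normalises `Y` and `Y'`.  `A` is an exact atom on `M`, `A ≰ O₂(H)`,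
`A ≤ O₂(C_H(Z))` and `A ≤ O₂(C_H(Y))`.

* `InpM T A Z Y Y'` : this situation (**the input of KL*(q) with all K2's**);
* `PreM T A Z Y Y'` : the same for an `A` which is exact modulo the kernel.
-/

set_option autoImplicit false

namespace Cfsg.Agent.Omega.KL.StarM

open Subgroup Cfsg Cfsg.Agent.ZN Cfsg.Agent.ClassTwoFusion.Quad Cfsg.Agent.Omega.ML.MinFrame
open Cfsg.Agent.MinSimple.MinParabolic (IsMinPar)

universe u v

/-- **The input.** -/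
structure InpM {H : Type u} [Group H] {M : Type v} [Group M] [MulDistribMulAction H M] (T A : Subgroup H)
    (Z Y Y' : Subgroup M) : Prop where
  sq : ∀ m : M, m * m = 1
  two : IsPGroup 2 T
  syl : ¬ 2 ∣ T.index
  tZ : ∀ z ∈ Z, ∀ t ∈ T, t • z = z
  NZ : ∀ g ∈ normalizer (T : Set H), ∀ z ∈ Z, g • z ∈ Z
  NY : ∀ g ∈ normalizer (T : Set H), ∀ w ∈ Y, g • w ∈ Y
  NY' : ∀ g ∈ normalizer (T : Set H), ∀ w ∈ Y', g • w ∈ Y'
  ZY' : Z ≤ Y'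
  dis : Y ⊓ Y' = ⊥
  /-- the `T`-fixed vectors of `Y` are fixed by `H` -/
  cY : ∀ w ∈ Y, (∀ t ∈ T, t • w = w) → ∀ g : H, g • w = w
  /-- a `T`-minimal `P` fixes `Z` pointwise, or it normalises `Y` and `Y'` -/
  par : ∀ P : Subgroup H, IsMinPar T P → (∀ z ∈ Z, ∀ p ∈ P, p • z = z) ∨
    ((∀ p ∈ P, ∀ w ∈ Y, p • w ∈ Y) ∧ ∀ p ∈ P, ∀ w ∈ Y', p • w ∈ Y')
  el : ∀ a ∈ A, a * a = 1
  exact : (cv M (A : Set H)).index = Nat.card A
  atom : ∀ C : Subgroup H, C ≤ A → C ≠ ⊥ → C ≠ A → Nat.card C < (cv M (C : Set H)).index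
  nT : ¬ A ≤ o2 (⊤ : Subgroup H)
  AZ : A ≤ o2 (fxr H Z)
  AY : A ≤ o2 (fxr H Y)
  KH : IsKGroup H

/-- the input for an `A` which is exact modulo the kernel -/
structure PreM {C : Type u} [Group C] {M : Type v} [Group M] [MulDistribMulAction C M] (T A : Subgroup C)
    (Z Y Y' : Subgroup M) : Prop where
  sq : ∀ m : M, m * m = 1
  two : IsPGroup 2 T
  syl : ¬ 2 ∣ T.index
  tZ : ∀ z ∈ Z, ∀ t ∈ T, t • z = z
  NZ : ∀ g ∈ normalizer (T : Set C), ∀ z ∈ Z, g • z ∈ Z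
  NY : ∀ g ∈ normalizer (T : Set C), ∀ w ∈ Y, g • w ∈ Y
  NY' : ∀ g ∈ normalizer (T : Set C), ∀ w ∈ Y', g • w ∈ Y'
  ZY' : Z ≤ Y'
  dis : Y ⊓ Y' = ⊥
  cY : ∀ w ∈ Y, (∀ t ∈ T, t • w = w) → ∀ g : C, g • w = w
  par : ∀ P : Subgroup C, IsMinPar T P → (∀ z ∈ Z, ∀ p ∈ P, p • z = z) ∨
    ((∀ p ∈ P, ∀ w ∈ Y, p • w ∈ Y) ∧ ∀ p ∈ P, ∀ w ∈ Y', p • w ∈ Y')
  el : ∀ a ∈ A, a * a = 1
  AZ : A ≤ o2 (fxr C Z)
  AY : A ≤ o2 (fxr C Y)
  /-- `A` is faithful on `⟨Z^C⟩` modulo the kernel -/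
  nk : ∀ a ∈ A, (∀ (c : C), ∀ z ∈ Z, a • c • z = c • z) → ∀ m : M, a • m = m
  mv : ∃ a ∈ A, ∃ m : M, a • m ≠ m
  no : ∀ B : Subgroup C, B ≤ A → (fxr C (⊤ : Subgroup M)).relIndex B ≤ (cv M (B : Set C)).index
  le : (cv M (A : Set C)).index ≤ (fxr C (⊤ : Subgroup M)).relIndex A
  KC : IsKGroup C

/-- **THEOREM KL*(q) with all K2's** as one hypothesis of the consumers -/
def NoInpM : Prop :=
  ∀ (H : Type u) [Group H] [Finite H] (M : Type v) [Group M] [Finite M] [MulDistribMulAction H M]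
    (T A : Subgroup H) (Z Y Y' : Subgroup M), ¬ InpM T A Z Y Y'

end Cfsg.Agent.Omega.KL.StarM
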