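import Cfsg.Agent.Mrg.Omega.KL.StarM.Sys
import Cfsg.Agent.Mrg.Omega.KL.Star.CrwB
import Cfsg.Agent.Mrg.Omega.ML.Ex.KnownDone


/-!
# LEMMA MOV, the end ([L2] + [L3] of bb #24920; helper831 over helper178's LEMMA CRW)

* **`SysM.false_of (ml : MLK) (h2 : ExitN)`**, **`SysM.false (ml : MLK)`**, **`SysM.dead (ml : MLK)`** :
  `SysM H M T A x y Y₁ Y₂ → False`.
-/

set_option autoImplicit false

namespace Cfsg.Agent.Omega.KL.StarM

open Subgroup Cfsg Cfsg.Agent.ZN
open Cfsg.Agent.MinSimple.MinParabolic (IsMinPar)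

universe u v

variable {H : Type u} [Group H] [Finite H] {M : Type v} [Group M] [Finite M] [MulDistribMulAction H M]
  {T A : Subgroup H} {x y : M} {Y₁ Y₂ : Subgroup M}

/-- **no `SysM`** : by LEMMA CRW `x ∈ Y₁`, against the link -/
theorem SysM.false_of (ml : ML.Final.MLK.{u, v}) (h2 : ML.Ex.Two.ExitN.{u, v}) (h : SysM H M T A x y Y₁ Y₂) :
    False := by
  have hne : Y₁ ≠ ⊥ := by
    intro h1
    have h3 := h.yY
    rw [h1, mem_bot] at h3
    exact h.y1 h3
  have hx : x ∈ Y₁ := Star.CrwB.le_of_sysB ml h2 h.toSysB hne h.N₁ (fun P hP hm => by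
    rcases h.par P hP with h3 | h3
    · obtain ⟨p, hp, hpx⟩ := hm
      exact absurd (h3 p hp) hpx
    · exact h3.1) h.tx
  obtain ⟨R, -, ⟨r, hr, hrx⟩, hl⟩ := h.link
  exact hrx (hl x hx h.xY h.tx r hr)

/-- closed over (ML) -/
theorem SysM.false (ml : ML.Final.MLK.{u, v}) (h : SysM H M T A x y Y₁ Y₂) : False :=
  h.false_of ml ML.Ex.KnownDone.exitN

/-- closed over (ML) -/
theorem SysM.dead (ml : ML.Final.MLK.{u, v}) (h : SysM H M T A x y Y₁ Y₂) : False :=
  h.false ml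

end Cfsg.Agent.Omega.KL.StarM
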