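import Cfsg.Agent.Mrg.Omega.KL.StarM.Sys
import Cfsg.Agent.Mrg.Omega.KL.StarM.Fin
import Cfsg.Agent.Mrg.Omega.ML.KnownAll


/-!
# LEMMA MOV = THEOREM KL*(q) with all K2's, closed (bb #24831 of helper192, #24920 of helper351, typed by 181, 815, 178, 351)

* **`noInpM_of (ml : MLK) : NoInpM`**, **`noInpM : NoInpM`**.
-/

set_option autoImplicit false

namespace Cfsg.Agent.Omega.KL.StarM

universe u v

/-- over (ML) -/
theorem noInpM_of (ml : ML.Final.MLK.{u, v}) : NoInpM.{u, v} := by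
  intro H _ _ M _ _ _ T A Z Y Y' i
  obtain ⟨H', _, _, N, _, _, _, T', A', x', y', Y₁, Y₂, h⟩ := i.out ml
  exact h.dead ml

/-- **THEOREM KL*(q) with all K2's** -/
theorem noInpM : NoInpM.{u, v} := noInpM_of ML.KnownAll.mlk

end Cfsg.Agent.Omega.KL.StarM
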