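import Cfsg.Agent.Mrg.Omega.KL.StarM.Def
import Cfsg.Agent.Mrg.Omega.KL.TwoZ.Inp
import Cfsg.Agent.Mrg.Omega.EXN.OffW
import Cfsg.Agent.Mrg.Omega.NOThreeL.RWide.ExnK

section


/-!
# `PreM → InpM` (LEMMA MOV, bb #24831)

`C` acts on `M`, not necessarily faithfully, `A` is exact modulo the kernel: `C / C_C(M)` and an atom in the image of `A`.
-/

set_option autoImplicit false
set_option linter.unusedSectionVars false

namespace Cfsg.Agent.Omega.KL.StarM

open Subgroup Cfsg Cfsg.Agent.Omega.MinPar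
open Cfsg.Agent.ZN (o2 zc)
open Cfsg.Agent.ClassTwoFusion.Quad Cfsg.Agent.Omega.ML.MinFrame
open Cfsg.Agent.MinSimple.MinParabolic (IsMinPar)
open Cfsg.Agent.MinSimple.VModule (le_o2 o2_isPGroup o2_le le_normalizer_o2)
open Cfsg.Agent.Omega.KL.Quo (norm_lift)

universe u v

variable {C : Type u} [Group C] [Finite C] {M : Type v} [Group M] [Finite M] [MulDistribMulAction C M]
  {T A : Subgroup C} {Z Y Y' : Subgroup M}

theorem PreM.inp (h : PreM T A Z Y Y') :
    ∃ (H : Type u) (_ : Group H) (_ : Finite H) (_ : MulDistribMulAction H M) (T' A' : Subgroup H),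
      InpM T' A' Z Y Y' := by
  have htriv : ∀ k ∈ fxr C (⊤ : Subgroup M), ∀ m : M, k • m = m := fun k hk m => hk m (mem_top m)
  have hN : (fxr C (⊤ : Subgroup M)).Normal := fxr_normal fun _ _ _ => mem_top _
  set N := fxr C (⊤ : Subgroup M) with hNdef
  let _ : MulDistribMulAction (C ⧸ N) M := quoAct N htriv
  let π : C →* C ⧸ N := QuotientGroup.mk' N
  have hπ : Function.Surjective π := QuotientGroup.mk'_surjective N
  have he : ∀ (g : C) (v : M), π g • v = g • v := fun _ _ => rfl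
  have hker : ∀ k : C, (∀ v : M, k • v = v) → π k = 1 := fun k hk =>
    (QuotientGroup.eq_one_iff k).2 fun v _ => hk v
  have hker2 : ∀ k : C, π k = 1 → ∀ v : M, k • v = v := fun k hk v =>
    (QuotientGroup.eq_one_iff k).1 hk v (mem_top v)
  -- stabilisers
  have hfx : ∀ W : Subgroup M, (fxr C W).map π = fxr (C ⧸ N) W := by
    intro W
    ext g
    constructor
    · rintro ⟨c, hc, rfl⟩
      exact hc
    · intro hg
      obtain ⟨c, rfl⟩ := hπ g
      exact ⟨c, hg, rfl⟩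
  have ho2 : ∀ S : Subgroup C, A ≤ o2 S → A.map π ≤ o2 (S.map π) := by
    intro S hS
    refine (map_mono hS).trans (le_o2 (map_mono (o2_le _)) ((o2_isPGroup _).map π) ?_)
    exact (map_mono (le_normalizer_o2 _)).trans (le_normalizer_map π)
  have hx : A.map π ≤ o2 (fxr (C ⧸ N) Z) := by
    rw [← hfx]
    exact ho2 _ h.AZ
  have hy : A.map π ≤ o2 (fxr (C ⧸ N) Y) := by
    rw [← hfx]
    exact ho2 _ h.AY
  have hsyl : ¬ 2 ∣ (T.map π).index := fun h2 => h.syl (h2.trans (index_map_dvd T hπ))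
  have hKH : IsKGroup (C ⧸ N) := ML.Final.sec_KG.quo C h.KC N
  have hel : ∀ a ∈ A.map π, a * a = 1 := by
    rintro _ ⟨a, ha, rfl⟩
    rw [← map_mul, h.el a ha, map_one]
  -- `A.map π` is faithful on `⟨Z^C⟩`
  have hfa : ∀ g ∈ A.map π, (∀ (c : C ⧸ N), ∀ z ∈ Z, g • c • z = c • z) → g = 1 := by
    rintro _ ⟨a, ha, rfl⟩ hg
    exact hker a (h.nk a ha fun c z hz => hg (π c) z hz)
  -- (NO)
  have hcv : ∀ B : Subgroup C, cv M (B.map π : Set (C ⧸ N)) = cv M (B : Set C) := by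
    intro B
    ext v
    constructor
    · exact fun hv a ha => hv _ ⟨a, ha, rfl⟩
    · rintro hv _ ⟨a, ha, rfl⟩
      exact hv a ha
  have hcard : ∀ B : Subgroup C, Nat.card (B.map π) = N.relIndex B := by
    intro B
    rw [← relIndex_bot_left, ← relIndex_comap, MonoidHom.comap_bot, QuotientGroup.ker_mk']
  have hno : ∀ B : Subgroup (C ⧸ N), B ≤ A.map π → Nat.card B ≤ (cv M (B : Set (C ⧸ N))).index := by
    intro B hB
    have e : (A ⊓ B.comap π).map π = B := by
      apply le_antisymm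
      · rintro _ ⟨a, ha, rfl⟩
        exact ha.2
      · intro g hg
        obtain ⟨a, ha, rfl⟩ := hB hg
        exact ⟨a, ⟨ha, hg⟩, rfl⟩
    rw [← e, hcv, hcard]
    exact h.no _ inf_le_left
  have hex : (cv M (A.map π : Set (C ⧸ N))).index = Nat.card (A.map π) := by
    refine le_antisymm ?_ (hno _ le_rfl)
    rw [hcv, hcard]
    exact h.le
  have hA1 : A.map π ≠ ⊥ := by
    intro h1
    obtain ⟨a, ha, m, hm⟩ := h.mv
    apply hm
    refine hker2 a ?_ m
    rw [← mem_bot, ← h1]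
    exact ⟨a, ha, rfl⟩
  -- an atom
  obtain ⟨B, ⟨hBA, hB1, hBe⟩, hmin⟩ : ∃ B : Subgroup (C ⧸ N), (B ≤ A.map π ∧ B ≠ ⊥ ∧
      (cv M (B : Set (C ⧸ N))).index = Nat.card B) ∧ ∀ B' : Subgroup (C ⧸ N), (B' ≤ A.map π ∧ B' ≠ ⊥ ∧
      (cv M (B' : Set (C ⧸ N))).index = Nat.card B') → B' ≤ B → B' = B := by
    obtain ⟨B, hB⟩ := (Set.toFinite {B : Subgroup (C ⧸ N) | B ≤ A.map π ∧ B ≠ ⊥ ∧
      (cv M (B : Set (C ⧸ N))).index = Nat.card B}).exists_minimal ⟨A.map π, le_rfl, hA1, hex⟩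
    exact ⟨B, hB.prop, fun B' hB' hle => le_antisymm hle (hB.le_of_le hB' hle)⟩
  have htZ : ∀ z ∈ Z, ∀ t ∈ T.map π, t • z = z := by
    rintro z hz _ ⟨t, ht, rfl⟩
    exact h.tZ z hz t ht
  refine ⟨C ⧸ N, inferInstance, inferInstance, inferInstance, T.map π, B, ?_⟩
  refine ⟨h.sq, h.two.map π, hsyl, htZ, ?_, ?_, ?_, h.ZY', h.dis, ?_, ?_, fun a ha => hel a (hBA ha), hBe, ?_, ?_,
    hBA.trans hx, hBA.trans hy, hKH⟩
  · intro g hg z hz
    obtain ⟨t, ht, n, hn, rfl⟩ := norm_lift π hπ h.two h.syl hg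
    rw [he, mul_smul]
    exact h.NZ t (le_normalizer ht) _ (h.NZ n hn z hz)
  · intro g hg z hz
    obtain ⟨t, ht, n, hn, rfl⟩ := norm_lift π hπ h.two h.syl hg
    rw [he, mul_smul]
    exact h.NY t (le_normalizer ht) _ (h.NY n hn z hz)
  · intro g hg z hz
    obtain ⟨t, ht, n, hn, rfl⟩ := norm_lift π hπ h.two h.syl hg
    rw [he, mul_smul]
    exact h.NY' t (le_normalizer ht) _ (h.NY' n hn z hz)
  · intro w hw hwT g
    obtain ⟨c, rfl⟩ := hπ g
    exact h.cY w hw (fun t ht => hwT (π t) ⟨t, ht, rfl⟩) c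
  · intro P hP
    obtain ⟨R, hR, rfl⟩ := Quo.exists_minPar π hπ hP
    rcases h.par R hR with h1 | h1
    · left
      rintro z hz _ ⟨r, hr, rfl⟩
      exact h1 z hz r hr
    · right
      constructor
      · rintro _ ⟨r, hr, rfl⟩ w hw
        exact h1.1 r hr w hw
      · rintro _ ⟨r, hr, rfl⟩ w hw
        exact h1.2 r hr w hw
  · intro B' hB' hB1' hne
    refine lt_of_le_of_ne (hno B' (hB'.trans hBA)) fun h1 => hne ?_
    exact hmin B' ⟨hB'.trans hBA, hB1', h1.symm⟩ hB'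
  · -- `O₂(H)` centralises `⟨Z^H⟩`
    intro hle
    apply hB1
    rw [eq_bot_iff]
    intro b hb
    rw [mem_bot]
    refine hfa b (hBA hb) fun c z hz => ?_
    have h1 : c⁻¹ * b * c ∈ o2 (⊤ : Subgroup (C ⧸ N)) := by
      have := (mem_normalizer_iff.1 (le_normalizer_o2 (⊤ : Subgroup (C ⧸ N)) (mem_top c⁻¹)) b).1 (hle hb)
      rwa [inv_inv] at this
    have h2 : o2 (⊤ : Subgroup (C ⧸ N)) ≤ T.map π :=
      Cfsg.Agent.MinSimple.VModule.o2_le_of_sylow (h.two.map π) (by rwa [relIndex_top_right])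
    have h3 := htZ z hz _ (h2 h1)
    rw [mul_smul, mul_smul, inv_smul_eq_iff] at h3
    exact h3

end Cfsg.Agent.Omega.KL.StarM

end

section


/-!
# NO-3L, box R: at least three types, all K2's in the `Y_j` allowed (#24089 with LEMMA MOV #24831)

* `GM C T A M Z Y Y'` : the input of LEMMA MOV on the level of subgroups of `G` (`C` acts on `M` by conjugation);
  `GM.preM`, **`GM.false_of`** (with `NoInpM`);
* **`TypedM.false_of`** : `TypedM S Z V` is impossible (with (ML) and `NoInpM`).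
-/

set_option autoImplicit false
set_option linter.unusedSectionVars false

namespace Cfsg.Agent.Omega.NOThreeL.RWide

open Subgroup Cfsg Cfsg.Agent.ZN Cfsg.Agent.Omega.MinPar Cfsg.Agent.Omega.Frame Cfsg.Agent.Omega.FrameNOFF
open Cfsg.Agent.ClassTwoFusion.Quad Cfsg.Agent.Omega.ML.MinFrame
open Cfsg.Agent.Omega.Node.NO3L
open Cfsg.Agent.ZN.ChoiceBase (cj cj_mono cj_inf cj_centralizer cj_eq_of_mem_normalizer mem_cj mem_normalizer_iff_cj
  cj_cj_inv cj_inv_cj)
open Cfsg.Agent.Omega.NoFF.Basic (comm_symm comm_mono)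
open Cfsg.Agent.Omega.NO3S.EThree Cfsg.Agent.Omega.NO3S.EThree.ExactA
open Cfsg.Agent.Omega.EK3.Rank (NoOn)
open Cfsg.Agent.Omega.ML.Final (MLK)
open Cfsg.Agent.MinSimple.MinParabolic (IsMinPar)
open Cfsg.Agent.Omega.EXN
open Cfsg.Agent.Omega.KL.TwoZ (actX)
open Cfsg.Agent.Omega.KL (Plug.sub_o2 Plug.minPar_map)
open Cfsg.Agent.Omega.KL.StarM (PreM NoInpM)

universe u v

/-- the input of LEMMA MOV on the level of subgroups of `G` -/
structure GM {G : Type u} [Group G] (C T A M Z Y Y' : Subgroup G) : Prop where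
  CM : C ≤ normalizer (M : Set G)
  sqM : ∀ m ∈ M, m ^ 2 = 1
  TC : T ≤ C
  two : IsPGroup 2 T
  syl : ¬ 2 ∣ T.relIndex C
  YM : Y ≤ M
  YM' : Y' ≤ M
  TZ : T ≤ centralizer (Z : Set G)
  NZ : C ⊓ normalizer (T : Set G) ≤ normalizer (Z : Set G)
  NY : C ⊓ normalizer (T : Set G) ≤ normalizer (Y : Set G)
  NY' : C ⊓ normalizer (T : Set G) ≤ normalizer (Y' : Set G)
  ZY' : Z ≤ Y'
  dis : Y ⊓ Y' = ⊥
  cY : C ≤ centralizer ((Y ⊓ centralizer (T : Set G) : Subgroup G) : Set G)
  par : ∀ P : Subgroup G, IsMinPar T P → P ≤ C → P ≤ centralizer (Z : Set G) ∨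
    (P ≤ normalizer (Y : Set G) ∧ P ≤ normalizer (Y' : Set G))
  AT : A ≤ T
  sqA : ∀ a ∈ A, a ^ 2 = 1
  AZ : A ≤ o2 (C ⊓ centralizer (Z : Set G))
  AY : A ≤ o2 (C ⊓ centralizer (Y : Set G))
  mv : ¬ A ≤ centralizer (M : Set G)
  ker : A ⊓ centralizer (XS Z C : Set G) ≤ centralizer (M : Set G)
  le : (centralizer (A : Set G)).relIndex M ≤ (centralizer (M : Set G)).relIndex A
  no : ∀ B : Subgroup G, B ≤ A → (centralizer (M : Set G)).relIndex B ≤ (centralizer (B : Set G)).relIndex M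
  K : IsKGroup C

namespace GM

variable {G : Type u} [Group G] {C T A M Z Y Y' : Subgroup G}

theorem preM [Finite G] (h : GM C T A M Z Y Y') :
    letI := actX h.CM
    PreM (T.subgroupOf C) (A.subgroupOf C) (Z.subgroupOf M) (Y.subgroupOf M) (Y'.subgroupOf M) := by
  let := actX h.CM
  change PreM (T.subgroupOf C) (A.subgroupOf C) (Z.subgroupOf M) (Y.subgroupOf M) (Y'.subgroupOf M)
  have hAC : A ≤ C := h.AT.trans h.TC
  have hZM : Z ≤ M := h.ZY'.trans h.YM'
  have hsm : ∀ (c : C) (m : M), ((c • m : M) : G) = c * m * (c : G)⁻¹ := fun _ _ => rfl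
  have hfix : ∀ (c : C) (m : M), c • m = m ↔ (m : G) * c = c * m := by
    intro c m
    rw [Subtype.ext_iff, hsm, mul_inv_eq_iff_eq_mul, eq_comm]
  have hnrm : ∀ (Y : Subgroup G) (c : C), (c : G) ∈ normalizer (Y : Set G) → ∀ m ∈ Y.subgroupOf M,
      c • m ∈ Y.subgroupOf M := by
    intro Y c hc m hm
    refine mem_subgroupOf.2 ?_
    rw [hsm]
    exact (mem_normalizer_iff.1 hc _).1 (mem_subgroupOf.1 hm)
  have hfxr : ∀ Y : Subgroup G, Y ≤ M → fxr C (Y.subgroupOf M) = (centralizer (Y : Set G)).subgroupOf C := by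
    intro Y hY
    ext c
    rw [mem_subgroupOf, mem_centralizer_iff]
    constructor
    · intro h y hy
      exact (hfix c ⟨y, hY hy⟩).1 (h _ (mem_subgroupOf.2 hy))
    · intro h y hy
      exact (hfix c y).2 (h _ (mem_subgroupOf.1 hy))
  have hfxt : fxr C (⊤ : Subgroup M) = (centralizer (M : Set G)).subgroupOf C := by
    rw [← hfxr M le_rfl, subgroupOf_self]
  have hcv : ∀ B : Subgroup G, B ≤ C → cv M (B.subgroupOf C : Set C) = (centralizer (B : Set G)).subgroupOf M := by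
    intro B hB
    ext m
    rw [mem_subgroupOf, mem_centralizer_iff]
    constructor
    · intro h b hb
      exact ((hfix ⟨b, hB hb⟩ m).1 (h _ (mem_subgroupOf.2 hb))).symm
    · intro h b hb
      exact (hfix b m).2 (h b (mem_subgroupOf.1 hb)).symm
  have hnT : ∀ g : C, g ∈ normalizer ((T.subgroupOf C : Subgroup C) : Set C) → (g : G) ∈ C ⊓ normalizer (T : Set G) := by
    intro g hg
    refine mem_inf.2 ⟨g.2, ?_⟩
    rw [mem_normalizer_iff]
    intro t
    constructor
    · intro ht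
      exact (mem_normalizer_iff.1 hg ⟨t, h.TC ht⟩).1 ht
    · intro ht
      have h1 : (g : G)⁻¹ * ((g : G) * t * (g : G)⁻¹) * (g : G)⁻¹⁻¹ ∈ T :=
        (mem_normalizer_iff.1 (inv_mem hg) ⟨(g : G) * t * (g : G)⁻¹, h.TC ht⟩).1 ht
      have e : (g : G)⁻¹ * ((g : G) * t * (g : G)⁻¹) * (g : G)⁻¹⁻¹ = t := by group
      rwa [e] at h1
  refine ⟨?_, ?_, h.syl, ?_, ?_, ?_, ?_, ?_, ?_, ?_, ?_, ?_, ?_, ?_, ?_, ?_, ?_, ?_, h.K⟩
  · intro m
    apply Subtype.ext
    have h1 := h.sqM m m.2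
    rw [pow_two] at h1
    exact h1
  · exact h.two.comap_of_injective C.subtype C.subtype_injective
  · intro z hz t ht
    rw [hfix]
    exact mem_centralizer_iff.1 (h.TZ (mem_subgroupOf.1 ht)) z (mem_subgroupOf.1 hz)
  · exact fun g hg => hnrm _ g (h.NZ (hnT g hg))
  · exact fun g hg => hnrm _ g (h.NY (hnT g hg))
  · exact fun g hg => hnrm _ g (h.NY' (hnT g hg))
  · exact fun z hz => mem_subgroupOf.2 (h.ZY' (mem_subgroupOf.1 hz))
  · rw [Subgroup.eq_bot_iff_forall]
    rintro x ⟨h1, h2⟩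
    have h3 : (x : G) ∈ Y ⊓ Y' := ⟨mem_subgroupOf.1 h1, mem_subgroupOf.1 h2⟩
    rw [h.dis, mem_bot] at h3
    exact Subtype.ext h3
  · intro w hw hwT g
    rw [hfix]
    refine mem_centralizer_iff.1 (h.cY g.2) w ⟨mem_subgroupOf.1 hw, ?_⟩
    change (w : G) ∈ centralizer (T : Set G)
    rw [mem_centralizer_iff]
    intro t ht
    exact ((hfix ⟨t, h.TC ht⟩ w).1 (hwT _ (mem_subgroupOf.2 ht))).symm
  · intro P hP
    rcases h.par _ (Plug.minPar_map h.TC hP) (map_subtype_le P) with h1 | h1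
    · left
      intro z hz p hp
      rw [hfix]
      exact mem_centralizer_iff.1 (h1 (mem_map_of_mem C.subtype hp)) z (mem_subgroupOf.1 hz)
    · right
      exact ⟨fun p hp => hnrm _ p (h1.1 (mem_map_of_mem C.subtype hp)),
        fun p hp => hnrm _ p (h1.2 (mem_map_of_mem C.subtype hp))⟩
  · intro a ha
    apply Subtype.ext
    have h1 := h.sqA a (mem_subgroupOf.1 ha)
    rw [pow_two] at h1
    exact h1
  · refine Plug.sub_o2 (S := C ⊓ centralizer (Z : Set G)) (fun c => ?_) h.AZ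
    rw [hfxr _ hZM, mem_subgroupOf]
    exact ⟨fun h1 => ⟨c.2, h1⟩, fun h1 => h1.2⟩
  · refine Plug.sub_o2 (S := C ⊓ centralizer (Y : Set G)) (fun c => ?_) h.AY
    rw [hfxr _ h.YM, mem_subgroupOf]
    exact ⟨fun h1 => ⟨c.2, h1⟩, fun h1 => h1.2⟩
  · intro a ha hc m
    rw [hfix]
    have h1 : (a : G) ∈ centralizer (XS Z C : Set G) := by
      have h2 : XS Z C ≤ centralizer ({(a : G)} : Set G) := by
        refine XS_le fun c hc' z hz => ?_
        rw [mem_centralizer_iff]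
        rintro _ rfl
        have h3 := (hfix a _).1 (hc ⟨c, hc'⟩ ⟨z, hZM hz⟩ (mem_subgroupOf.2 hz))
        exact h3.symm
      rw [mem_centralizer_iff]
      intro x hx
      exact (mem_centralizer_iff.1 (h2 hx) a rfl).symm
    exact mem_centralizer_iff.1 (h.ker ⟨mem_subgroupOf.1 ha, h1⟩) m m.2
  · by_contra hcon
    push Not at hcon
    apply h.mv
    intro a ha
    rw [mem_centralizer_iff]
    intro m hm
    exact (hfix ⟨a, hAC ha⟩ ⟨m, hm⟩).1 (hcon _ (mem_subgroupOf.2 ha) ⟨m, hm⟩)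
  · intro B hB
    set B' : Subgroup G := B.map C.subtype with hB'
    have hBB : B'.subgroupOf C = B := comap_map_eq_self_of_injective C.subtype_injective B
    have hB'A : B' ≤ A := by
      rintro _ ⟨b, hb, rfl⟩
      exact mem_subgroupOf.1 (hB hb)
    have h1 := h.no B' hB'A
    rw [hfxt, ← hBB, hcv B' (hB'A.trans hAC), relIndex_subgroupOf (hB'A.trans hAC)]
    exact h1
  · rw [hfxt, hcv A hAC, relIndex_subgroupOf hAC]
    exact h.le

/-- **KL*(q) with all K2's** on the level of subgroups -/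
theorem false_of [Finite G] (hN : NoInpM.{u, u}) (h : GM C T A M Z Y Y') : False := by
  let := actX h.CM
  obtain ⟨H, _, _, _, T', A', i⟩ := h.preM.inp
  exact hN H M T' A' _ _ _ i

end GM

namespace TypedM

open TypB

variable {G : Type u} [Group G] [Finite G] {S : Sylow 2 G} {ι : Type v} {Z V : ι → Subgroup G}
  (T : TypedM (S : Subgroup G) Z V) (hc : IsCharacteristicTwoType G) (ml : MLK.{u, u})
  (kg : ∀ R : Subgroup G, IsLoc (S : Subgroup G) R → IsKGroup R) (hS : (S : Subgroup G) ≠ ⊥)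
include T hc ml kg hS

theorem kl (hE : NoInpM.{u, u}) {i j : ι} (hij : i ≠ j) {F : Subgroup G} (hF : IsElementaryAbelian 2 F)
    (hFQ : F ≤ o2 (CZ (S : Subgroup G)) ⊓ centralizer (NN Z i : Set G))
    (hm : MinOff (zl (S : Subgroup G) (WW (S : Subgroup G) Z i j)) F)
    (hX : F ≤ centralizer (XX Z V i j : Set G)) : F ≤ centralizer (NN Z j : Set G) := by
  by_contra hN
  have Tb := T.typB
  have hFO : F ≤ o2 (CZ (S : Subgroup G)) := hFQ.trans inf_le_left
  have hFV : F ≤ centralizer (V i : Set G) := (hFQ.trans inf_le_right).trans (centralizer_le (T.VX i))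
  set E := zl (S : Subgroup G) (WW (S : Subgroup G) Z i j) with hEd
  have hYW : YY Z j ≤ WW (S : Subgroup G) Z i j := (Tb.YY_le j).trans (sup_le_sup_left le_sup_right _)
  have hYWi : YY Z i ≤ WW (S : Subgroup G) Z i j := (Tb.YY_le i).trans (sup_le_sup_left le_sup_left _)
  have hNE : NN Z j ≤ E := Tb.XS_le_zl hYW
  have hNEi : NN Z i ≤ E := Tb.XS_le_zl hYWi
  have hWE : WW (S : Subgroup G) Z i j ≤ normalizer (E : Set G) := MinSimple.VModule.le_normalizer_zl _ _
  have hEe : IsElementaryAbelian 2 E := FFThm.elem_zl hc S (Tb.locW i j)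
  have hsit := Tb.sit hc ml kg hS
  obtain ⟨h1, h2, h3, h4, h5⟩ := exact_of hF hFO hm hNE (hsit.no j) hN
  have hFS : F ≤ (S : Subgroup G) := hFO.trans ((isLoc_centralizer_zc S hS).o2_le S)
  refine GM.false_of (C := YY Z j) (T := (S : Subgroup G)) (A := F) (M := E) (Z := Z j) (Y := V i) (Y' := V j) hE
    { CM := hYW.trans hWE
      sqM := hEe.2
      TC := Tb.S_le j
      two := S.isPGroup'
      syl := MinSimple.Basic.not_dvd_relIndex S (Tb.S_le j)
      YM := (T.VX i).trans hNEi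
      YM' := (T.VX j).trans hNE
      TZ := Tb.ZC j
      NZ := fun n hn => (T.nrm j n hn.2 hn.1).1
      NY := fun n hn => (T.nrm j n hn.2 hn.1).2 i
      NY' := fun n hn => (T.nrm j n hn.2 hn.1).2 j
      ZY' := T.ZV j
      dis := T.dis i j hij
      cY := ?_
      par := ?_
      AT := hFS
      sqA := hF.2
      AZ := ?_
      AY := ?_
      mv := hm.mov
      ker := h1
      le := hm.le
      no := ?_
      K := kg _ (Tb.locY j) }
  · -- the `S`-fixed points of `V_i`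
    refine (YY_le_cent hij).trans (centralizer_le ?_)
    intro x hx
    refine T.cV i ⟨hx.1, MinSimple.VModule.mem_zc.2 ⟨?_, ?_, ?_⟩⟩
    · exact ((T.VX i).trans ((Tb.NN_le_O hc i).trans ((isLoc_centralizer_zc S hS).o2_le S))) hx.1
    · intro s hs
      exact mem_centralizer_iff.1 hx.2 s hs
    · exact hEe.2 x (hNEi (T.VX i hx.1))
  · intro P hP hPY
    have hPp := (Tb.locY j).isPar S hP hPY
    by_cases h : IsParS (S : Subgroup G) P
    · exact Or.inr ⟨T.par j P h hPY i, T.par j P h hPY j⟩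
    · exact Or.inl ((par_le_CZ S hPp h).trans (centralizer_le (T.le j)))
  · -- `C_{Y_j}(Z_j) = D`
    have e : YY Z j ⊓ centralizer (Z j : Set G) = CZ (S : Subgroup G) := by
      apply le_antisymm
      · refine Tb.le_CZ_of fun l => ?_
        by_cases hl : l = j
        · subst hl
          exact inf_le_right
        · exact inf_le_left.trans (YY_le_cent hl)
      · exact le_inf (Tb.CZ_le j) (centralizer_le (T.le j))
    rw [e]
    exact hFO
  · -- `O₂(C_{Y_j}(V_i) S) ∩ C(V_i) ≤ O₂(C_{Y_j}(V_i))`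
    set K := YY Z j ⊓ centralizer (V i : Set G) with hK
    have hl : F ≤ o2 (K ⊔ (S : Subgroup G)) := by
      refine le_o2_of_comm hFO (hFS.trans le_sup_right) ?_
      refine comm_symm ((Tb.zl_le_sup inf_le_left (Tb.S_norm_H i j)).trans (sup_le (comm_symm hX) ?_))
      exact comm_symm (hFO.trans (MinSimple.VModule.o2_le _))
    have hFK : F ≤ K := le_inf (hFS.trans (Tb.S_le j)) hFV
    refine (le_inf hl hFK).trans (MinSimple.VModule.le_o2 inf_le_right
      ((MinSimple.VModule.o2_isPGroup _).to_le inf_le_left) ?_)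
    intro g hg
    rw [mem_normalizer_iff_cj, cj_inf,
      cj_eq_of_mem_normalizer (MinSimple.VModule.le_normalizer_o2 _ ((le_sup_left : K ≤ K ⊔ (S : Subgroup G)) hg)),
      cj_eq_of_mem_normalizer (le_normalizer hg)]
  · intro B hB
    have hBO := hFO.trans' hB
    have h6 := hsit.no j B (eab_mono hF hB) hBO
    have h7 : (centralizer (E : Set G)).relIndex B ≤ (centralizer (NN Z j : Set G)).relIndex B := by
      rw [← inf_relIndex_left B (centralizer (NN Z j : Set G))]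
      exact Sigma.relIndex_le_left ((inf_le_inf_right _ hB).trans h1)
    exact h7.trans (h6.trans (Sigma.relIndex_le_right hNE))

/-- **`EXN.BigW`** -/
theorem big (hE : NoInpM.{u, u}) : BigW (CZ (S : Subgroup G)) (o2 (CZ (S : Subgroup G))) Z
    (LL (S : Subgroup G) Z) (NN Z) (XX Z V) (fun i j => zl (S : Subgroup G) (WW (S : Subgroup G) Z i j)) where
  toSit := T.typB.sit hc ml kg hS
  eE i j _ := FFThm.elem_zl hc S (T.typB.locW i j)
  EO i j _ := ((T.typB.longW i j).zl_le_o2 hc S).trans ((T.typB.longW i j).o2_le S)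
  NE i j _ := T.typB.XS_le_zl ((T.typB.YY_le j).trans (sup_le_sup_left le_sup_right _))
  symm i j := by rw [WW, WW, sup_comm (LL (S : Subgroup G) Z i)]
  DE i j _ := (le_sup_left : _ ≤ WW (S : Subgroup G) Z i j).trans (MinSimple.VModule.le_normalizer_zl _ _)
  LE i j _ := ((le_sup_left : _ ≤ LL (S : Subgroup G) Z i ⊔ LL (S : Subgroup G) Z j).trans
    (le_sup_right : _ ≤ WW (S : Subgroup G) Z i j)).trans (MinSimple.VModule.le_normalizer_zl _ _)
  minE i j _ U h1 h2 h3 h4 := MinSimple.VModule.zl_le (T.sup.trans (iSup_le h1)) (sup_le h2 (sup_le h3 h4))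
  kl i j hij F hF hFQ hm hX := T.kl hc ml kg hS hE hij hF hFQ hm hX

/-- **At least three types are impossible.** -/
theorem false_of [Finite ι] (hE : NoInpM.{u, u}) : False := by
  have hz := MinSimple.Basic.zc_ne_bot S.isPGroup' hS
  obtain ⟨⟨x, hx⟩, hx1⟩ := (Subgroup.ne_bot_iff_exists_ne_one).1 hz
  have hx1' : x ≠ 1 := fun h => hx1 (Subtype.ext h)
  have hzO : zc (S : Subgroup G) ≤ o2 (CZ (S : Subgroup G)) := by
    have hL : IsLong (S : Subgroup G) (CZ (S : Subgroup G)) := ⟨isLoc_centralizer_zc S hS, le_rfl⟩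
    exact zc_le_zl.trans (hL.zl_le_o2 hc S)
  obtain ⟨U, hU1, hUO, hUD, hUL⟩ := (T.big hc ml kg hS hE).exn ⟨x, hzO hx, hx1', MinSimple.VModule.zc_sq _ x hx⟩
  exact hU1 (T.non U ((MinSimple.VModule.o2_isPGroup _).to_le hUO) fun j =>
    (T.typB.YY_le j).trans (sup_le hUD (hUL j)))

end TypedM

end Cfsg.Agent.Omega.NOThreeL.RWide

end
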